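import Mathlib
import Cfsg.Prelude.Def_TwoFusion
import Cfsg.Prelude.Def_Involutions
import Cfsg.Prelude.Def_Classical
import Cfsg.Prelude.Def_Sz
import Cfsg.Agent.LieRecognition.SzMatrix
import Cfsg.Agent.LieRecognition.PSUThreeSylow
import Cfsg.Agent.LieRecognition.HermHeis
import Cfsg.Agent.Classification.PSLTwoEvenSylow
import Cfsg.Agent.S1163

/-!
# Simple groups with Sylow 2-subgroups of type `PSU₃(2^n)` or `Sz(2^n)`

`Ty T q c`: the involutions of the group `T` are central, `T` is not commutative, `|T| = q ^ c` and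
`T` has exactly `q` solutions of `x * x = 1`. For the Sylow 2-subgroups of `PSU₃(q)` this holds with
`c = 3`, for those of `Sz(q)` with `c = 2`. In a simple group `G` with such a Sylow 2-subgroup `S` the
solutions of `x * x = 1` in `S` form a strongly closed abelian subgroup; with Goldschmidt's theorem
and Bender's theorem `G` is `PSU₃(q)`, respectively `Sz(q)`.
-/

set_option autoImplicit false

namespace Cfsg.Agent.TypeU3Sz.Main

open Cfsg

/-- The conclusion of Bender's theorem for simple groups, up to isomorphism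
(the conclusion of `Cfsg.Agent.StrongEmb.Strong.result`). -/
def Concl (G : Type*) [Group G] : Prop :=
  (∃ (F : Type) (_ : Field F) (_ : Fintype F), (∃ n : ℕ, 2 ≤ n ∧ Fintype.card F = 2 ^ n) ∧
      Nonempty (G ≃* Matrix.ProjectiveSpecialLinearGroup (Fin 2) F)) ∨
    Cfsg.Lie.IsoSuzuki G ∨
    (∃ (F : Type) (_ : Field F) (_ : Fintype F) (n : ℕ), 2 ≤ n ∧ Fintype.card F = (2 ^ n) ^ 2 ∧
      Nonempty (G ≃* Cfsg.PSU 3 F (2 ^ n)))

/-- Involutions central, not commutative, order `q ^ c`, and `q` solutions of `x * x = 1`. -/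
structure Ty (T : Type*) [Group T] (q c : ℕ) : Prop where
  comm : ∀ x y : T, x * x = 1 → x * y = y * x
  nc : ∃ x y : T, x * y ≠ y * x
  card : Nat.card T = q ^ c
  inv : Nat.card {x : T // x * x = 1} = q

theorem Ty.congr {T T' : Type*} [Group T] [Group T'] (e : T ≃* T') {q c : ℕ} (h : Ty T q c) :
    Ty T' q c where
  comm x y hx := by
    have h1 : e.symm x * e.symm x = 1 := by rw [← map_mul, hx, map_one]
    have h2 := h.comm (e.symm x) (e.symm y) h1
    rw [← map_mul, ← map_mul] at h2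
    exact e.symm.injective h2
  nc := by
    obtain ⟨x, y, hxy⟩ := h.nc
    refine ⟨e x, e y, fun h1 => hxy ?_⟩
    rw [← map_mul, ← map_mul] at h1
    exact e.injective h1
  card := by rw [← Nat.card_congr e.toEquiv]; exact h.card
  inv := by
    rw [← h.inv]
    refine Nat.card_congr (e.symm.toEquiv.subtypeEquiv fun x => ?_)
    constructor
    · intro hx
      change e.symm x * e.symm x = 1
      rw [← map_mul, hx, map_one]
    · intro hx
      change e.symm x * e.symm x = 1 at hx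
      rw [← map_mul] at hx
      exact e.symm.injective (by rw [hx, map_one])

/-- The type determines `q` and `c`. -/
theorem Ty.unique {T : Type*} [Group T] [Finite T] {q c q' c' : ℕ} (h : Ty T q c) (h' : Ty T q' c') :
    q = q' ∧ c = c' := by
  have hq : q = q' := by rw [← h.inv, ← h'.inv]
  refine ⟨hq, ?_⟩
  subst hq
  have h1 : 1 < q := by
    rcases Nat.lt_or_ge 1 q with h1 | h1
    · exact h1
    · exfalso
      obtain ⟨x, y, hxy⟩ := h.nc
      apply hxy
      have hle : Nat.card T ≤ 1 := by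
        rw [h.card]
        calc q ^ c ≤ 1 ^ c := Nat.pow_le_pow_left h1 c
          _ = 1 := one_pow c
      have : Subsingleton T := by
        rw [← Finite.card_le_one_iff_subsingleton]
        exact hle
      exact Subsingleton.elim _ _
  exact Nat.pow_right_injective h1 (show q ^ c = q ^ c' by rw [← h.card, ← h'.card])

/-- The Sylow 2-subgroups of `PSU₃(2^n)`. -/
theorem ty_psu {F : Type*} [Field F] [Finite F] {n : ℕ} (hn : 1 ≤ n)
    (hF : Nat.card F = (2 ^ n) ^ 2) (S : Sylow 2 (Cfsg.PSU 3 F (2 ^ n))) :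
    Ty (S : Subgroup (Cfsg.PSU 3 F (2 ^ n))) (2 ^ n) 3 := by
  obtain ⟨_, σ, hσ, hs, -, h3⟩ :=
    Cfsg.Agent.LieRecognition.PSUThreeSylow.exists_heis_equiv F hn hF
  obtain ⟨e⟩ := h3 S
  have hq : 1 < 2 ^ n := Nat.one_lt_two_pow (by omega)
  refine Ty.congr e ⟨fun x y hx => ?_, ?_, Cfsg.Agent.LieRecognition.HermHeis.card_heis hq hs hF, ?_⟩
  · rw [Cfsg.Agent.LieRecognition.HermHeis.commute_iff,
      (Cfsg.Agent.LieRecognition.HermHeis.mul_self_eq_one_iff x).mp hx]
    simp
  · obtain ⟨c, hc⟩ := Cfsg.Agent.LieRecognition.HermHeis.exists_not_fixed (σ := σ) hq hs hF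
    obtain ⟨y, hy⟩ := Cfsg.Agent.LieRecognition.HermHeis.exists_heis_a (σ := σ) hq hs hF 1
    obtain ⟨z, hz⟩ := Cfsg.Agent.LieRecognition.HermHeis.exists_heis_a (σ := σ) hq hs hF c
    refine ⟨y, z, fun h => hc ?_⟩
    rw [Cfsg.Agent.LieRecognition.HermHeis.commute_iff, hy, hz] at h
    simpa using h
  · rw [← Cfsg.Agent.LieRecognition.HermHeis.card_center (σ := σ) hq hs hF]
    refine Nat.card_congr (Equiv.subtypeEquivRight fun x => ?_)
    rw [Cfsg.Agent.LieRecognition.HermHeis.mul_self_eq_one_iff,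
      Cfsg.Agent.LieRecognition.HermHeis.mem_center_iff hq hs hF]

open Cfsg.Agent.LieRecognition.SzMatrix in
/-- Facts on the unipotent subgroup of `Sz(q)`. -/
theorem ty_unip {F : Type*} [Field F] [Fintype F] {m : ℕ} (hm : 1 ≤ m)
    (hF : Fintype.card F = 2 ^ (2 * m + 1)) : Ty (good hF).unip (2 ^ (2 * m + 1)) 2 := by
  have H := good hF
  have h2 : (2 : F) = 0 := two_eq_zero hF
  have hadd : ∀ x : F, x + x = 0 := fun x => by rw [← two_mul, h2, zero_mul]
  have hcF : Nat.card F = 2 ^ (2 * m + 1) := by rw [Nat.card_eq_fintype_card, hF]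
  have hsq : ∀ a b : F, H.u a b * H.u a b = 1 ↔ a = 0 := by
    intro a b
    rw [H.u_mul, ← H.u_zero]
    constructor
    · intro h
      have h3 := (H.u_inj h).2
      have h4 : a * (theta hF) a = 0 := by
        have h5 := hadd b
        linear_combination h3 - h5
      rcases mul_eq_zero.mp h4 with h6 | h6
      · exact h6
      · exact (map_eq_zero _).mp h6
    · intro h
      subst h
      simp [hadd]
  refine ⟨?_, ?_, ?_, ?_⟩
  · rintro ⟨x, hx⟩ ⟨y, hy⟩ hxx
    obtain ⟨a, b, rfl⟩ := (H.mem_unip_iff x).mp hx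
    obtain ⟨c, d, rfl⟩ := (H.mem_unip_iff y).mp hy
    have h3 : H.u a b * H.u a b = 1 := congrArg Subtype.val hxx
    rw [hsq] at h3
    subst h3
    apply Subtype.ext
    change H.u 0 b * H.u c d = H.u c d * H.u 0 b
    rw [H.u_mul, H.u_mul]
    congr 1 <;> simp [add_comm]
  · have h1 : ∃ a : F, (theta hF) a ≠ a := by
      by_contra hcon
      push Not at hcon
      have h3 : ∀ a : F, a ^ 2 = a := fun a => by
        have h4 := H.sq a
        rw [hcon, hcon] at h4
        exact h4.symm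
      have h5 : Fintype.card F ≤ 2 := by
        classical
        have hsub : (Finset.univ : Finset F) ⊆ {0, 1} := by
          intro a _
          have h6 : a * (a - 1) = 0 := by linear_combination h3 a
          rcases mul_eq_zero.mp h6 with h7 | h7
          · simp [h7]
          · simp [sub_eq_zero.mp h7]
        calc Fintype.card F = (Finset.univ : Finset F).card := rfl
          _ ≤ ({0, 1} : Finset F).card := Finset.card_le_card hsub
          _ ≤ 2 := Finset.card_le_two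
      rw [hF] at h5
      have h8 : 2 ^ 3 ≤ 2 ^ (2 * m + 1) := Nat.pow_le_pow_right (by norm_num) (by omega)
      omega
    obtain ⟨a, ha⟩ := h1
    refine ⟨⟨H.u 1 0, H.u_mem_unip 1 0⟩, ⟨H.u a 0, H.u_mem_unip a 0⟩, fun h => ha ?_⟩
    have h3 : H.u 1 0 * H.u a 0 = H.u a 0 * H.u 1 0 := congrArg Subtype.val h
    rw [H.u_mul, H.u_mul] at h3
    have h4 := (H.u_inj h3).2
    simp only [map_one, mul_one, one_mul, zero_add, add_zero] at h4
    exact h4
  · rw [H.card_unip, hcF]
  · rw [← hcF]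
    refine Nat.card_congr (Equiv.ofBijective
      (fun b : F => (⟨⟨H.u 0 b, H.u_mem_unip 0 b⟩, Subtype.ext ((hsq 0 b).mpr rfl)⟩ :
        {x : (good hF).unip // x * x = 1})) ⟨?_, ?_⟩).symm
    · intro b c h
      have h3 : H.u 0 b = H.u 0 c := congrArg (fun x => x.1.1) h
      exact (H.u_inj h3).2
    · rintro ⟨⟨x, hx⟩, hxx⟩
      obtain ⟨a, b, rfl⟩ := (H.mem_unip_iff x).mp hx
      have h3 : H.u a b * H.u a b = 1 := congrArg Subtype.val hxx
      rw [hsq] at h3
      subst h3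
      exact ⟨b, rfl⟩

/-- The Sylow 2-subgroups of `Sz(q)`. -/
theorem ty_sz {F : Type*} [Field F] [Fintype F] {m : ℕ} (hm : 1 ≤ m)
    (hF : Fintype.card F = 2 ^ (2 * m + 1)) (S : Sylow 2 (Cfsg.Lie.Sz F (2 ^ (m + 1)))) :
    Ty (S : Subgroup (Cfsg.Lie.Sz F (2 ^ (m + 1)))) (2 ^ (2 * m + 1)) 2 := by
  have : Fact (Nat.Prime 2) := ⟨Nat.prime_two⟩
  have hcF : Nat.card F = 2 ^ (2 * m + 1) := by rw [Nat.card_eq_fintype_card, hF]
  have hfin : Finite (Cfsg.Lie.Sz F (2 ^ (m + 1))) := inferInstance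
  have hcu : Nat.card (Cfsg.Agent.LieRecognition.SzMatrix.good hF).unip = (2 ^ (2 * m + 1)) ^ 2 := by
    rw [(Cfsg.Agent.LieRecognition.SzMatrix.good hF).card_unip, hcF]
  obtain ⟨hcard, -⟩ := Cfsg.Agent.S1163.result hm hF
  have hodd : ¬ 2 ∣ (2 ^ (2 * m + 1) - 1) * ((2 ^ (2 * m + 1)) ^ 2 + 1) := by
    intro h
    rcases (Nat.Prime.dvd_mul Nat.prime_two).mp h with h | h
    · have h1 : 1 ≤ 2 ^ (2 * m + 1) := Nat.one_le_two_pow
      have h2 : 2 ∣ 2 ^ (2 * m + 1) := dvd_pow_self 2 (by omega)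
      omega
    · have h2 : 2 ∣ (2 ^ (2 * m + 1)) ^ 2 := dvd_pow (dvd_pow_self 2 (by omega)) (by omega)
      omega
  have hidx : (Cfsg.Agent.LieRecognition.SzMatrix.good hF).unip.index =
      (2 ^ (2 * m + 1) - 1) * ((2 ^ (2 * m + 1)) ^ 2 + 1) := by
    have h1 := Subgroup.card_mul_index (Cfsg.Agent.LieRecognition.SzMatrix.good hF).unip
    rw [hcu, hcard, mul_assoc] at h1
    exact Nat.eq_of_mul_eq_mul_left (by positivity) h1
  have hpg : IsPGroup 2 (Cfsg.Agent.LieRecognition.SzMatrix.good hF).unip := by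
    rw [IsPGroup.iff_card]
    exact ⟨(2 * m + 1) * 2, by rw [hcu, ← pow_mul]⟩
  have hni : ¬ 2 ∣ (Cfsg.Agent.LieRecognition.SzMatrix.good hF).unip.index := by
    rw [hidx]; exact hodd
  let P : Sylow 2 (Cfsg.Lie.Sz F (2 ^ (m + 1))) := hpg.toSylow hni
  exact Ty.congr (Sylow.equiv P S) (ty_unip hm hF)

/-- The solutions of `x * x = 1` in a subgroup all of whose involutions are central. -/
def omega {G : Type*} [Group G] (S : Subgroup G) (h : ∀ x y : S, x * x = 1 → x * y = y * x) :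
    Subgroup G where
  carrier := {x | x ∈ S ∧ x * x = 1}
  one_mem' := ⟨S.one_mem, one_mul 1⟩
  mul_mem' := by
    rintro x y ⟨hx, hx2⟩ ⟨hy, hy2⟩
    have h1 : x * y = y * x :=
      congrArg Subtype.val (h ⟨x, hx⟩ ⟨y, hy⟩ (Subtype.ext hx2))
    refine ⟨S.mul_mem hx hy, ?_⟩
    calc x * y * (x * y) = x * (y * x) * y := by group
      _ = x * (x * y) * y := by rw [h1]
      _ = (x * x) * (y * y) := by group
      _ = 1 := by rw [hx2, hy2, one_mul]
  inv_mem' := by
    rintro x ⟨hx, hx2⟩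
    refine ⟨S.inv_mem hx, ?_⟩
    rw [← mul_inv_rev, hx2, inv_one]

theorem mem_omega {G : Type*} [Group G] (S : Subgroup G)
    (h : ∀ x y : S, x * x = 1 → x * y = y * x) (x : G) :
    x ∈ omega S h ↔ x ∈ S ∧ x * x = 1 := Iff.rfl

theorem isMulCommutative_omega {G : Type*} [Group G] (S : Subgroup G)
    (h : ∀ x y : S, x * x = 1 → x * y = y * x) : IsMulCommutative (omega S h) := by
  refine ⟨⟨fun x y => Subtype.ext ?_⟩⟩
  change x.1 * y.1 = y.1 * x.1
  exact congrArg Subtype.val (h ⟨x.1, x.2.1⟩ ⟨y.1, y.2.1⟩ (Subtype.ext x.2.2))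

theorem isStronglyClosed_omega {G : Type*} [Group G] (S : Subgroup G)
    (h : ∀ x y : S, x * x = 1 → x * y = y * x) : Cfsg.IsStronglyClosed (omega S h) S := by
  refine ⟨fun x hx => hx.1, fun x hx g hg => ⟨hg, ?_⟩⟩
  have h1 := hx.2
  calc g * x * g⁻¹ * (g * x * g⁻¹) = g * (x * x) * g⁻¹ := by group
    _ = 1 := by rw [h1, mul_one, mul_inv_cancel]

section main

variable {G : Type*} [Group G] [Finite G]

/-- A Sylow 2-subgroup of the given type in a group for which Goldschmidt's theorem holds: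
there is a strongly embedded subgroup. -/
theorem exists_stronglyEmbedded (S : Sylow 2 G) {q c : ℕ} (h : Ty (S : Subgroup G) q c)
    (hgold : ∀ A : Subgroup G, A ≠ ⊥ → IsMulCommutative A →
      Cfsg.IsStronglyClosed A (S : Subgroup G) →
      IsMulCommutative (S : Subgroup G) ∨ ∃ H : Subgroup G, Cfsg.IsStronglyEmbedded H) :
    ∃ H : Subgroup G, Cfsg.IsStronglyEmbedded H := by
  have : Fact (Nat.Prime 2) := ⟨Nat.prime_two⟩
  have hne : omega (S : Subgroup G) h.comm ≠ ⊥ := by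
    intro hbot
    obtain ⟨x, y, hxy⟩ := h.nc
    have hx1 : x ≠ 1 := by rintro rfl; exact hxy (by rw [one_mul, mul_one])
    have hnt : Nontrivial (S : Subgroup G) := ⟨x, 1, hx1⟩
    have h2 : 2 ∣ Nat.card (S : Subgroup G) := by
      obtain ⟨n, hn, hcard⟩ := S.isPGroup'.nontrivial_iff_card.mp hnt
      rw [hcard]
      exact dvd_pow_self 2 (by omega)
    obtain ⟨w, hw⟩ := exists_prime_orderOf_dvd_card' 2 h2
    have hw2 : w * w = 1 := by
      have h3 := pow_orderOf_eq_one w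
      rwa [hw, sq] at h3
    have hw1 : w ≠ 1 := by rintro rfl; rw [orderOf_one] at hw; omega
    have hmem : (w : G) ∈ omega (S : Subgroup G) h.comm := ⟨w.2, congrArg Subtype.val hw2⟩
    rw [hbot, Subgroup.mem_bot] at hmem
    exact hw1 (Subtype.ext hmem)
  rcases hgold _ hne (isMulCommutative_omega _ h.comm) (isStronglyClosed_omega _ h.comm) with h1 | h1
  · exfalso
    obtain ⟨x, y, hxy⟩ := h.nc
    exact hxy (h1.is_comm.comm x y)
  · exact h1

/-- Identification of the group from its type. -/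
theorem of_concl (S : Sylow 2 G) {q c : ℕ} (h : Ty (S : Subgroup G) q c) (hb : Concl G) :
    (c = 2 ∧ ∃ (F : Type) (_ : Field F) (_ : Fintype F) (m : ℕ), 1 ≤ m ∧ q = 2 ^ (2 * m + 1) ∧
        Fintype.card F = 2 ^ (2 * m + 1) ∧ Nonempty (G ≃* Cfsg.Lie.Sz F (2 ^ (m + 1)))) ∨
      (c = 3 ∧ ∃ (F : Type) (_ : Field F) (_ : Fintype F) (n : ℕ), 2 ≤ n ∧ q = 2 ^ n ∧
        Fintype.card F = (2 ^ n) ^ 2 ∧ Nonempty (G ≃* Cfsg.PSU 3 F (2 ^ n))) := by
  have : Fact (Nat.Prime 2) := ⟨Nat.prime_two⟩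
  rcases hb with ⟨F, _, _, ⟨n, hn, hF⟩, ⟨e⟩⟩ | ⟨F, _, _, m, hm, hF, ⟨e⟩⟩ |
    ⟨F, _, _, n, hn, hF, ⟨e⟩⟩
  · exfalso
    have h2 : CharP F 2 := charP_of_card_eq_prime_pow hF
    have h3 := Cfsg.Agent.Classification.PSLTwoEvenSylow.sylow_comm e S
    obtain ⟨x, y, hxy⟩ := h.nc
    exact hxy (h3.is_comm.comm x y)
  · left
    let P : Sylow 2 (Cfsg.Lie.Sz F (2 ^ (m + 1))) := default
    have h1 := ty_sz hm hF (S.mapSurjective (f := e.toMonoidHom) e.surjective)
    have h2 : Ty (S : Subgroup G) (2 ^ (2 * m + 1)) 2 :=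
      Ty.congr (e.subgroupMap (S : Subgroup G)).symm h1
    obtain ⟨h3, h4⟩ := h.unique h2
    exact ⟨h4, F, _, _, m, hm, h3, hF, ⟨e⟩⟩
  · right
    have hF' : Nat.card F = (2 ^ n) ^ 2 := by rw [Nat.card_eq_fintype_card, hF]
    have h1 := ty_psu (by omega) hF' (S.mapSurjective (f := e.toMonoidHom) e.surjective)
    have h2 : Ty (S : Subgroup G) (2 ^ n) 3 :=
      Ty.congr (e.subgroupMap (S : Subgroup G)).symm h1
    obtain ⟨h3, h4⟩ := h.unique h2
    exact ⟨h4, F, _, _, n, hn, h3, hF, ⟨e⟩⟩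

end main

end Cfsg.Agent.TypeU3Sz.Main
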