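import Mathlib
import Cfsg.Agent.TypeU3Sz.Main

/-!
# Types `PSU₃(2^n)` and `Sz(2^n)`, in the form needed for S1740

The two hypotheses `hgold` (Goldschmidt's theorem for `G`) and `hb` (Bender's theorem for `G`) are
discharged in `Cfsg.Agent.TypeU3Sz.Final`.
-/

set_option autoImplicit false

namespace Cfsg.Agent.TypeU3Sz.Types

open Cfsg Cfsg.Agent.TypeU3Sz.Main

variable {G : Type*} [Group G] [Finite G]

/-- Sylow 2-subgroups of type `PSU₃(2^n)`. -/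
theorem iso_psu (S : Sylow 2 G) (n : ℕ)
    (hS : ∃ (F : Type) (_ : Field F) (_ : Fintype F), Fintype.card F = 4 ^ n ∧
      (∃ P : Sylow 2 (Cfsg.PSU 3 F (2 ^ n)),
        Nonempty (↥(S : Subgroup G) ≃* ↥(P : Subgroup (Cfsg.PSU 3 F (2 ^ n))))))
    (hgold : ∀ A : Subgroup G, A ≠ ⊥ → IsMulCommutative A →
      Cfsg.IsStronglyClosed A (S : Subgroup G) →
      IsMulCommutative (S : Subgroup G) ∨ ∃ H : Subgroup G, Cfsg.IsStronglyEmbedded H)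
    (hb : ∀ H : Subgroup G, Cfsg.IsStronglyEmbedded H → Concl G) :
    ∃ (F : Type) (_ : Field F) (_ : Fintype F), Fintype.card F = 4 ^ n ∧
      Nonempty (G ≃* Cfsg.PSU 3 F (2 ^ n)) := by
  obtain ⟨F, _, _, hF, P, ⟨e⟩⟩ := hS
  have h4 : ∀ k : ℕ, (4 : ℕ) ^ k = (2 ^ k) ^ 2 := fun k => by
    rw [← pow_mul, mul_comm, pow_mul]
    norm_num
  have hn : 1 ≤ n := by
    rcases Nat.eq_zero_or_pos n with h0 | h0
    · exfalso
      subst h0
      rw [pow_zero] at hF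
      have := Fintype.one_lt_card (α := F)
      omega
    · exact h0
  have hF' : Nat.card F = (2 ^ n) ^ 2 := by rw [Nat.card_eq_fintype_card, hF, h4]
  have hty : Ty (S : Subgroup G) (2 ^ n) 3 := Ty.congr e.symm (ty_psu hn hF' P)
  obtain ⟨H, hH⟩ := exists_stronglyEmbedded S hty hgold
  rcases of_concl S hty (hb H hH) with ⟨h1, -⟩ | ⟨-, E, _, _, k, hk, hq, hE, ⟨f⟩⟩
  · omega
  · have hkn : n = k := Nat.pow_right_injective (le_refl 2) hq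
    subst hkn
    exact ⟨E, _, _, by rw [hE, h4], ⟨f⟩⟩

/-- Sylow 2-subgroups of type `Sz(2^n)`. -/
theorem iso_sz (S : Sylow 2 G) (n : ℕ)
    (hS : ∃ m : ℕ, 1 ≤ m ∧ n = 2 * m + 1 ∧ ∃ (F : Type) (_ : Field F) (_ : Fintype F),
      Fintype.card F = 2 ^ n ∧ (∃ P : Sylow 2 ↥(Cfsg.Lie.Sz F (2 ^ (m + 1))),
        Nonempty (↥(S : Subgroup G) ≃* ↥(P : Subgroup ↥(Cfsg.Lie.Sz F (2 ^ (m + 1)))))))
    (hgold : ∀ A : Subgroup G, A ≠ ⊥ → IsMulCommutative A →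
      Cfsg.IsStronglyClosed A (S : Subgroup G) →
      IsMulCommutative (S : Subgroup G) ∨ ∃ H : Subgroup G, Cfsg.IsStronglyEmbedded H)
    (hb : ∀ H : Subgroup G, Cfsg.IsStronglyEmbedded H → Concl G) :
    ∃ m : ℕ, 1 ≤ m ∧ n = 2 * m + 1 ∧ ∃ (F : Type) (_ : Field F) (_ : Fintype F),
      Fintype.card F = 2 ^ n ∧ Nonempty (G ≃* ↥(Cfsg.Lie.Sz F (2 ^ (m + 1)))) := by
  obtain ⟨m, hm, rfl, F, _, _, hF, P, ⟨e⟩⟩ := hS
  have hty : Ty (S : Subgroup G) (2 ^ (2 * m + 1)) 2 := Ty.congr e.symm (ty_sz hm hF P)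
  obtain ⟨H, hH⟩ := exists_stronglyEmbedded S hty hgold
  rcases of_concl S hty (hb H hH) with ⟨-, E, _, _, k, hk, hq, hE, ⟨f⟩⟩ | ⟨h1, -⟩
  · have hkm : 2 * m + 1 = 2 * k + 1 := Nat.pow_right_injective (le_refl 2) hq
    have hkm' : m = k := by omega
    subst hkm'
    exact ⟨m, hm, rfl, E, _, _, hE, ⟨f⟩⟩
  · omega

end Cfsg.Agent.TypeU3Sz.Types
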