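import Mathlib
import Cfsg.Agent.TypeU3Sz.Types
import Cfsg.Agent.S1169
import Cfsg.Agent.StrongEmb.Strong

/-!
# Simple groups with Sylow 2-subgroups of type `PSU₃(2^n)` or `Sz(2^n)`

The pieces of S1740 for the unitary groups and the Suzuki groups (from S1169 and Bender's theorem).
-/

set_option autoImplicit false

namespace Cfsg.Agent.TypeU3Sz.Final

open Cfsg Cfsg.Agent.TypeU3Sz.Main Cfsg.Agent.TypeU3Sz.Types

variable {G : Type*} [Group G] [Finite G] [IsSimpleGroup G]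

theorem noncomm_of (hG : ¬ IsMulCommutative G) : ∃ a b : G, a * b ≠ b * a := by
  by_contra hcon
  push Not at hcon
  exact hG ⟨⟨hcon⟩⟩

/-- A simple group with Sylow 2-subgroups of type `PSU₃(2^n)` is `PSU₃(2^n)`. -/
theorem iso_psu (hG : ¬ IsMulCommutative G) (S : Sylow 2 G) (n : ℕ)
    (hS : ∃ (F : Type) (_ : Field F) (_ : Fintype F), Fintype.card F = 4 ^ n ∧
      (∃ P : Sylow 2 (Cfsg.PSU 3 F (2 ^ n)),
        Nonempty (↥(S : Subgroup G) ≃* ↥(P : Subgroup (Cfsg.PSU 3 F (2 ^ n)))))) :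
    ∃ (F : Type) (_ : Field F) (_ : Fintype F), Fintype.card F = 4 ^ n ∧
      Nonempty (G ≃* Cfsg.PSU 3 F (2 ^ n)) :=
  Cfsg.Agent.TypeU3Sz.Types.iso_psu S n hS
    (fun A hA hc hs => Cfsg.Agent.S1169.result S A hA hc hs)
    (fun H hH => Cfsg.Agent.StrongEmb.Strong.result (noncomm_of hG) H hH)

/-- A simple group with Sylow 2-subgroups of type `Sz(2^n)` is `Sz(2^n)`. -/
theorem iso_sz (hG : ¬ IsMulCommutative G) (S : Sylow 2 G) (n : ℕ)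
    (hS : ∃ m : ℕ, 1 ≤ m ∧ n = 2 * m + 1 ∧ ∃ (F : Type) (_ : Field F) (_ : Fintype F),
      Fintype.card F = 2 ^ n ∧ (∃ P : Sylow 2 ↥(Cfsg.Lie.Sz F (2 ^ (m + 1))),
        Nonempty (↥(S : Subgroup G) ≃* ↥(P : Subgroup ↥(Cfsg.Lie.Sz F (2 ^ (m + 1))))))) :
    ∃ m : ℕ, 1 ≤ m ∧ n = 2 * m + 1 ∧ ∃ (F : Type) (_ : Field F) (_ : Fintype F),
      Fintype.card F = 2 ^ n ∧ Nonempty (G ≃* ↥(Cfsg.Lie.Sz F (2 ^ (m + 1)))) :=
  Cfsg.Agent.TypeU3Sz.Types.iso_sz S n hS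
    (fun A hA hc hs => Cfsg.Agent.S1169.result S A hA hc hs)
    (fun H hH => Cfsg.Agent.StrongEmb.Strong.result (noncomm_of hG) H hH)

end Cfsg.Agent.TypeU3Sz.Final
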